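import Cfsg.Agent.BG.S05
import Cfsg.Agent.BG.S06a

/-! Bender-Glauberman section 6, ambient form: see `S06a`. -/
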